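import Cfsg.Agent.Lib.Helper5.Sieve6232.Base

set_option autoImplicit false

namespace Cfsg.Agent.Lib.Helper5.Sieve6232

theorem chunk4 : chunkOK 4937 324 = true := by decide +kernel

end Cfsg.Agent.Lib.Helper5.Sieve6232
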