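import Cfsg.Agent.Lib.Helper5.Sieve6232.C0
import Cfsg.Agent.Lib.Helper5.Sieve6232.C1
import Cfsg.Agent.Lib.Helper5.Sieve6232.C2
import Cfsg.Agent.Lib.Helper5.Sieve6232.C3
import Cfsg.Agent.Lib.Helper5.Sieve6232.C4
import Cfsg.Agent.Lib.Helper5.Sieve6232.C5
import Cfsg.Agent.Lib.Helper5.Sieve6232.C6
import Cfsg.Agent.Lib.Helper5.Sieve6232.C7

/-!
helper5: helper8's order sieve on `(3640, 6232]`: the residual list.
-/

set_option autoImplicit false

namespace Cfsg.Agent.Lib.Helper5.Sieve6232

open Cfsg.Agent.Lib.Helper8.OrdSieve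

theorem mem_residual (n : ℕ) (h1 : 3640 < n) (h2 : n ≤ 6232) (hs : sieveOK n = false) :
    n ∈ residual := by
  by_cases c0 : n < 3641 + 324
  · exact of_chunkOK chunk0 n (by omega) (by omega) hs
  by_cases c1 : n < 3965 + 324
  · exact of_chunkOK chunk1 n (by omega) (by omega) hs
  by_cases c2 : n < 4289 + 324
  · exact of_chunkOK chunk2 n (by omega) (by omega) hs
  by_cases c3 : n < 4613 + 324
  · exact of_chunkOK chunk3 n (by omega) (by omega) hs
  by_cases c4 : n < 4937 + 324
  · exact of_chunkOK chunk4 n (by omega) (by omega) hs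
  by_cases c5 : n < 5261 + 324
  · exact of_chunkOK chunk5 n (by omega) (by omega) hs
  by_cases c6 : n < 5585 + 324
  · exact of_chunkOK chunk6 n (by omega) (by omega) hs
  · exact of_chunkOK chunk7 n (by omega) (by omega) hs

end Cfsg.Agent.Lib.Helper5.Sieve6232
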