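import Mathlib
import Cfsg.Agent.Lib.Helper8.OrdSieveC

/-!
helper5: evaluation of helper8's order sieve on the range `(3640, 6232]` (for S0983), in chunks.
-/

set_option autoImplicit false

namespace Cfsg.Agent.Lib.Helper5.Sieve6232

open Cfsg.Agent.Lib.Helper8.OrdSieve

/-- the orders in `(3640, 6232]` not killed by the sieve -/
def residual : List ℕ :=
  [3648, 3696, 3744, 3780, 3960, 4032, 4080, 4160, 4200, 4212, 4320, 4400, 4536, 4620, 4680, 4760,
    4800, 4928, 5040, 5148, 5200, 5376, 5400, 5460, 5472, 5600, 5616, 5760, 5880, 5940, 6048, 6072,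
    6160]

/-- Boolean check of the chunk `[a, a + len)` -/
def chunkOK (a len : ℕ) : Bool :=
  (List.range len).all fun i => sieveOK (a + i) || residual.contains (a + i)

theorem of_chunkOK {a len : ℕ} (h : chunkOK a len = true) (n : ℕ) (h1 : a ≤ n) (h2 : n < a + len)
    (hs : sieveOK n = false) : n ∈ residual := by
  unfold chunkOK at h
  rw [List.all_eq_true] at h
  have h3 := h (n - a) (List.mem_range.mpr (by omega))
  have h4 : a + (n - a) = n := by omega
  rw [h4, hs, Bool.false_or] at h3
  exact List.contains_iff_mem.mp h3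

end Cfsg.Agent.Lib.Helper5.Sieve6232
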